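import Cfsg.Agent.Lib.Helper28.TCCheck

set_option autoImplicit false

namespace Cfsg.Agent.Lib.Helper56.J1D

open Cfsg.Agent.Lib.Helper28.TC

/-- the generators -/
inductive Gen
  | p
  | q
  deriving DecidableEq

/-- the list of generators -/
def gens : List Gen := [Gen.p, Gen.q]

theorem mem_gens (x : Gen) : x ∈ gens := by cases x <;> decide

/-- the relators `x * x` -/
def sqE : List (WE Gen) := gens.map fun x => WE.mul (WE.of x) (WE.of x)

/-- the other relators -/
def restE : List (WE Gen) := [
  (WE.pow (WE.mul (WE.of Gen.p) (WE.of Gen.q)) 19)]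

/-- all relators, as expressions -/
def relE : List (WE Gen) := sqE ++ restE

/-- the subgroup generators, as expressions -/
def subE : List (WE Gen) := []

/-- the relators -/
abbrev rels : Set (FreeGroup Gen) := {r | ∃ e ∈ relE, r = e.evalF}

/-- the subgroup generators -/
abbrev subS : Set (FreeGroup Gen) := {s | ∃ e ∈ subE, s = e.evalF}

theorem hinv : ∀ x, pval rels x * pval rels x = 1 := by
  intro x
  have h : (WE.mul (WE.of x) (WE.of x)).evalF ∈ rels :=
    ⟨_, List.mem_append_left _ (List.mem_map_of_mem (mem_gens x)), rfl⟩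
  have h2 := PresentedGroup.one_of_mem h
  simpa [WE.evalF, pval, PresentedGroup.of] using h2

end Cfsg.Agent.Lib.Helper56.J1D
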