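import Cfsg.Agent.Lib.Helper28.TCCheck
import Cfsg.Agent.Lib.Helper56.J1D.Pres

set_option autoImplicit false
set_option linter.unusedVariables false

namespace Cfsg.Agent.Lib.Helper56.J1D

open Cfsg.Agent.Lib.Helper28.TC

noncomputable section

def hotA_c0 : ℕ := 0x0
def hotA : ℕ := hotA_c0
def coldA_c0 : ℕ := 0x0
def coldA : ℕ := coldA_c0
def treeT_c0 : ℕ := 0x942390228c618860841f801e7c5d785c741b701a6c596858641760165c555854541350124c514850440f400e3c4d384c340b300a2c492848240720061c451844140310020c41084004000000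
def treeT : ℕ := treeT_c0
def rowT_c0 : ℕ := 0x9648e28607de75c6da6585d65544d24503ce34c2ca2481c61440c2040
def rowT : ℕ := rowT_c0

end

end Cfsg.Agent.Lib.Helper56.J1D
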