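import Cfsg.Agent.Lib.Helper28.TCCheck
import Cfsg.Agent.Lib.Helper56.J1D.Pres

set_option autoImplicit false
set_option linter.unusedVariables false

namespace Cfsg.Agent.Lib.Helper56.J1D

open Cfsg.Agent.Lib.Helper28.TC

noncomputable section

def hotE0_c0 : ℕ := 0x24c91e391346960c0fdf8113e85cb8ddb70f36758b0bd760d2e654a89d350b26550a07cf4091e44c985cb30716348903c72050e244881c31030614082002
def hotE0 : ℕ := hotE0_c0
def coldE0_c0 : ℕ := 0x2380008a000000000000001f80007a000000000000001b80006a000000000000001780005a000000000000001380004a000000000000000f80003a000000000000000b80002a000000000000000780001a000000000000000380000a0000000000000000800000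
def coldE0 : ℕ := coldE0_c0
def tfT0_c0 : ℕ := 0x8e29647de8606da75c5d66584d25543ce4502ca34c1c62480c2144001
def tfT0 : ℕ := tfT0_c0

end

end Cfsg.Agent.Lib.Helper56.J1D
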