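import Cfsg.Agent.Lib.Helper28.TCCheck
import Cfsg.Agent.Lib.Helper56.J1D.Pres

set_option autoImplicit false
set_option linter.unusedVariables false

namespace Cfsg.Agent.Lib.Helper56.J1D

open Cfsg.Agent.Lib.Helper28.TC

noncomputable section

def hotE1_c0 : ℕ := 0x25cb2a68b143862490a37af3b75e40e9f6ad3365a38c9b5ab2b55630a974a923452288933a71b34e2068f2a51324a1848b1a30b146102870a10304208083
def hotE1 : ℕ := hotE1_c0
def coldE1_c0 : ℕ := 0x24a3020b00021800082000000000000001d800072000000000000001980006200000000000000158000520000000000000011800042000000000000000d80003200000000000000098000220000000000000005800012000000000000000180000200000000000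
def coldE1 : ℕ := coldE1_c0
def tfT1_c0 : ℕ := 0x9258608e275c7de6586da5545d64504d234c3ce2482ca1441c60400c2
def tfT1 : ℕ := tfT1_c0

end

end Cfsg.Agent.Lib.Helper56.J1D
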